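import Cfsg.Agent.Spor.U62M.C0
import Cfsg.Agent.Spor.U693.Grp

set_option autoImplicit false
set_option maxRecDepth 100000000
set_option Elab.async false

namespace Cfsg.Agent.Spor.U62M

theorem rels : AllP (fun w => A.isS TT w = true) (Ctx.sqRL 9 U693.RL) :=
  show AllP (fun w => A.isS TT w = true) [[0, 0], [2, 2], [4, 4], [6, 6], [8, 8], [10, 10], [12, 12], [14, 14], [16, 16], [2, 4, 2, 4, 2, 4], [2, 6, 2, 6], [2, 8, 2, 8], [2, 10, 2, 10], [2, 12, 2, 12], [2, 14, 2, 14], [2, 16, 2, 16], [4, 6, 4, 6, 4, 6], [4, 8, 4, 8], [4, 10, 4, 10], [4, 12, 4, 12, 4, 12], [4, 14, 4, 14], [4, 16, 4, 16], [6, 8, 6, 8, 6, 8], [6, 10, 6, 10], [6, 12, 6, 12], [6, 14, 6, 14], [6, 16, 6, 16], [8, 10, 8, 10, 8, 10], [8, 12, 8, 12], [8, 14, 8, 14], [8, 16, 8, 16, 8, 16], [10, 12, 10, 12], [10, 14, 10, 14], [10, 16, 10, 16], [12, 14, 12, 14, 12, 14], [12, 16, 12,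 16], [14, 16, 14, 16, 14, 16], [0, 2, 0, 2], [0, 4, 0, 4], [0, 6, 0, 6], [0, 8, 0, 8], [0, 10, 0, 10], [0, 12, 0, 12], [0, 14, 0, 14], [0, 16, 0, 16], [14, 12, 4, 6, 8, 10, 2, 14, 12, 4, 6, 8, 10, 2, 14, 12, 4, 6, 8, 10, 2, 14, 12, 4, 6, 8, 10, 2, 14, 12, 4, 6, 8, 10, 2, 14, 12, 4, 6, 8, 10, 2, 14, 12, 4, 6, 8, 10, 2, 14, 12, 4, 6, 8, 10, 2, 14, 12, 4, 6, 8, 10, 2], [12, 14, 4, 12, 6, 4, 8, 6, 16, 8, 14, 12, 4, 6, 16, 14, 8, 16, 12, 14, 4, 6, 8, 16], [12, 4, 12, 6, 4, 12, 8, 6, 4, 12, 10, 8, 6, 4, 12, 16, 8, 6, 4, 10, 8, 16, 12, 6, 8, 10, 4, 6, 8, 16], [12, 4, 12, 6, 4, 12, 8, 6, 4, 12, 2, 4, 12, 6, 4, 8, 6, 2, 4, 12, 16, 8, 6, 4, 12, 2, 4, 6, 8, 16, 0], [0]] from AllP.cons r1 (AllP.cons r2 (AllP.cons r3 (AllP.cons r4 (AllP.cons r5 (AllP.cons r6 (AllP.cons r7 (AllP.cons r8 (AllP.cons r9 (AllP.cons r10 (AllP.cons r11 (AllP.cons r12 (AllP.cons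 r13 (AllP.cons r14 (AllP.cons r15 (AllP.cons r16 (AllP.cons r17 (AllP.cons r18 (AllP.cons r19 (AllP.cons r20 (AllP.cons r21 (AllP.cons r22 (AllP.cons r23 (AllP.cons r24 (AllP.cons r25 (AllP.cons r26 (AllP.cons r27 (AllP.cons r28 (AllP.cons r29 (AllP.cons r30 (AllP.cons r31 (AllP.cons r32 (AllP.cons r33 (AllP.cons r34 (AllP.cons r35 (AllP.cons r36 (AllP.cons r37 (AllP.cons r38 (AllP.cons r39 (AllP.cons r40 (AllP.cons r41 (AllP.cons r42 (AllP.cons r43 (AllP.cons r44 (AllP.cons r45 (AllP.cons r46 (AllP.cons r47 (AllP.cons r48 (AllP.cons r49 (AllP.cons r50 (AllP.nil))))))))))))))))))))))))))))))))))))))))))))))))))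

theorem iso {F : Type} [Field F] [Fintype F] (hF : Fintype.card F = 4) :
    Nonempty (U693.P ≃* PSU 6 F 2) := by
  obtain ⟨ω, hω⟩ := exists_omega (F := F) (by rw [hF])
  let X : Ctx A F (Fin 6) :=
    Ctx.f4 A (Equiv.refl _) (cast_eq_zero_of_card (k := 2) hF) ω hω (by decide +kernel)
  obtain ⟨σ, hσ⟩ := Class.exists_UF (q := 2) hF
  have hc := Ctx.codA_gen gensOk (Ctx.exists_SU (X := X) hσ.eq rfl X.hw gensOk detOk uniOk)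
  exact iso_of_simple' U693.bound (by norm_num) U693.cert.pres (hc.presQ (suToMat_inj 6 2) rels)
    U693.lbP U693.simpleP (hc.neQ (a := 2) (b := 4) (by decide) ne)
    (card_PSU_eq (q := 2) hF (by decide +kernel))

end Cfsg.Agent.Spor.U62M
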